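import Cfsg.Agent.Lib.M24Pres.Main
import Cfsg.Agent.Lib.J4Pres.Bound.Instance
import Cfsg.Agent.Lib.J4Pres.Model.Rep
import Cfsg.Agent.Lib.Golay.Mathieu

/-!
The Mathieu group inside the presented fourth Janko group: the map on the first two generators and, as
the group acts nontrivially on the 112-dimensional space, its injectivity.
-/

set_option autoImplicit false

namespace Cfsg.Agent.M24Pres

open Cfsg Cfsg.Agent.J4Bound

noncomputable section

theorem rels_j4 : Rels jx jy := by
  constructor <;> simp only [jx, jy, ← map_mul, ← map_inv, ← map_pow] <;>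
    refine mkJ_extra ?_ <;> simp [Spor.J4.extra]

/-- The Mathieu group mapped onto the subgroup of the first two generators. -/
def psi : M24 →* Spor.J4 := hom rels_j4

theorem psi_gx : psi J4Pres.gx = jx := hom_gx rels_j4

theorem psi_gy : psi J4Pres.gy = jy := hom_gy rels_j4

theorem jx_ne_one : jx ≠ 1 := by
  intro h
  have h1 : J4Model.glX = 1 := by
    have h2 := congrArg J4Model.rho h
    rw [map_one] at h2
    exact (PresentedGroup.toGroup.of J4Model.relators_hold).symm.trans h2
  have h3 : J4Model.toMat 112 (J4Model.letterRows 0) = 1 := congrArg Units.val h1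
  have h4 := congrFun (congrFun h3 0) 1
  revert h4
  decide +kernel

theorem psi_injective : Function.Injective psi := by
  rw [← MonoidHom.ker_eq_bot_iff]
  have := Golay.isSimpleGroup_M24
  refine (Subgroup.Normal.eq_bot_or_eq_top (MonoidHom.normal_ker psi)).resolve_right fun h => jx_ne_one ?_
  rw [← psi_gx, ← MonoidHom.mem_ker, h]
  trivial

theorem range_psi : psi.range =
    (Subgroup.closure ({Spor.J4.x, Spor.J4.y} : Set (FreeGroup Spor.J4.Gen))).map mkJ := by
  rw [MonoidHom.range_eq_map, ← J4Pres.closure_gx_gy, MonoidHom.map_closure, MonoidHom.map_closure]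
  simp [Set.image_insert_eq, psi_gx, psi_gy, jx, jy]

end

end Cfsg.Agent.M24Pres
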