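import Cfsg.Agent.Lib.M24Pres.Table
import Cfsg.Agent.Lib.Golay.Aut
import Mathlib.GroupTheory.Subgroup.Center

/-!
Coset roots with permutation tags: a group `Γ` generated by `X`, `Y` mapped to permutations of the 24 points,
a table of cosets of the centraliser of `c` with the conjugate of the image of `c` at each coset. If the tags
tell the base coset apart then the kernel of the map is central.
-/

set_option autoImplicit false

namespace Cfsg.Agent.M24Pres

open Cfsg Cfsg.Agent.Golay Cfsg.Agent.PermCert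

noncomputable section

theorem pget_eq (v p : ℕ) : pget v p = get 5 v p := rfl

variable {Γ : Type*} [Group Γ] {X Y : Γ}

theorem linkOK_spec {L : Log} {H : Subgroup Γ} {m s link a b : ℕ} (hX : X * X = 1)
    (hold : ∀ j, 1 ≤ j → j ≤ m → Holds L X Y H j) (h : linkOK L (m + 1) s link a b = true) :
    rep L X Y a * letter X Y s * (rep L X Y b)⁻¹ ∈ H := by
  unfold linkOK at h
  split at h
  · rename_i e w hw
    simp only [Bool.and_eq_true] at h
    obtain rfl := Nat.eq_of_beq_eq_true h.1
    obtain rfl := eq_of_wEq h.2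
    simpa [evalW] using chain_sound hX (fun i h1 h2 => hold i h1 (by omega)) _ _ _ _ hw
  · exact Bool.noConfusion h

theorem tagOK_spec {S κ κ' : ℕ} {σ τ : Equiv.Perm GolayPt} (hS : ∀ p, idx (σ p) = pget S (idx p))
    (hκ : ∀ p, idx (τ p) = pget κ (idx p)) (h : tagOK S κ κ' = true) (p : GolayPt) :
    idx ((σ⁻¹ * τ * σ) p) = pget κ' (idx p) := by
  have h1 := allRange_spec h (idx p) (Nat.zero_le _) (by have := idx_lt p; omega)
  simp only [Bool.and_eq_true, Nat.blt_eq] at h1
  have hq : pget S (pget κ' (idx p)) = idx (σ (pt ⟨pget κ' (idx p), h1.1⟩)) := by rw [hS, idx_pt]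
  have h2 : idx (τ (σ p)) = idx (σ (pt ⟨pget κ' (idx p), h1.1⟩)) := by
    rw [hκ, hS, ← hq]; exact Nat.eq_of_beq_eq_true h1.2
  rw [Equiv.Perm.mul_apply, Equiv.Perm.mul_apply, idx_injective h2, Equiv.Perm.inv_def,
    Equiv.symm_apply_apply, idx_pt]

/-- The group is a monoid generated by `X` and `Y`. -/
theorem reach_all (hX : X * X = 1) (hY : Y * Y * Y = 1) (hgen : Subgroup.closure {X, Y} = ⊤)
    {Q : Γ → Prop} (h1 : Q 1) (hx : ∀ g, Q g → Q (g * X)) (hy : ∀ g, Q g → Q (g * Y)) (g : Γ) : Q g := by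
  have hg : g ∈ Subgroup.closure ({X, Y} : Set Γ) := hgen ▸ Subgroup.mem_top g
  induction hg using Subgroup.closure_induction_right with
  | one => exact h1
  | mul_right a _ b hb ih =>
    rcases hb with rfl | rfl
    exacts [hx a ih, hy a ih]
  | mul_inv_cancel a _ b hb ih =>
    rcases hb with rfl | rfl
    · rw [inv_eq_of_mul_eq_one_right hX]; exact hx a ih
    · rw [inv_eq_of_mul_eq_one_right (show b * (b * b) = 1 by rw [← mul_assoc]; exact hY), ← mul_assoc]
      exact hy _ (hy a ih)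

/-- The kernel is central. -/
theorem ker_le_center (π : Γ →* Equiv.Perm GolayPt) (hX : X * X = 1) (hY : Y * Y * Y = 1)
    (hgen : Subgroup.closure {X, Y} = ⊤) (hperf : Subgroup.normalClosure {X} = ⊤) (T : Table) (c r : List ℕ)
    (hpx : ∀ p, idx (π X p) = pget T.px (idx p)) (hpy : ∀ p, idx (π Y p) = pget T.py (idx p))
    (hc : conjEq r [0] c = true)
    (hroot : rNode (T.roots.get 0) = 0)
    (hc0 : ∀ p, idx (π (evalW X Y c) p) = pget (rTag (T.roots.get 0)) (idx p))
    (hold : ∀ j, 1 ≤ j → j ≤ T.count →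
      Holds T.log X Y (Subgroup.centralizer {evalW X Y c}) j)
    (hsize : 0 < T.size) (hchk : ∀ i, i < T.size → T.check i = true) : π.ker ≤ Subgroup.center Γ := by
  set H := Subgroup.centralizer ({evalW X Y c} : Set Γ)
  set C := evalW X Y c
  let Q : Γ → Prop := fun g => ∃ i, i < T.size ∧
    g * (rep T.log X Y (rNode (T.roots.get i)))⁻¹ ∈ H ∧
      ∀ p, idx (((π g)⁻¹ * π C * π g) p) = pget (rTag (T.roots.get i)) (idx p)
  have hchk' := fun i hi => by have h := hchk i hi; simp only [Table.check, Bool.and_eq_true] at h; exact h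
  have step : ∀ (s : ℕ) (S : Γ) (PS : ℕ) (i j : ℕ) (g : Γ), S = letter X Y s →
      (∀ p, idx (π S p) = pget PS (idx p)) →
      rep T.log X Y (rNode (T.roots.get i)) * letter X Y s * (rep T.log X Y (rNode (T.roots.get j)))⁻¹ ∈ H →
      tagOK PS (rTag (T.roots.get i)) (rTag (T.roots.get j)) = true →
      g * (rep T.log X Y (rNode (T.roots.get i)))⁻¹ ∈ H →
      (∀ p, idx (((π g)⁻¹ * π C * π g) p) = pget (rTag (T.roots.get i)) (idx p)) → j < T.size →
      Q (g * S) := by
    intro s S PS i j g hS hP hl ht hg hk hj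
    refine ⟨j, hj, ?_, fun p => ?_⟩
    · convert mul_mem hg hl using 1
      rw [hS]; group
    · have := tagOK_spec hP hk ht p
      simpa [mul_assoc] using this
  have hQ : ∀ g, Q g := reach_all hX hY hgen
    ⟨0, hsize, by simp [hroot, rep_zero], fun p => by simpa using hc0 p⟩
    (fun g ⟨i, hi, hg, hk⟩ => by
      obtain ⟨⟨⟨⟨⟨⟨htx, -⟩, hlx⟩, -⟩, hkx⟩, -⟩, -⟩ := hchk' i hi
      exact step 0 X T.px i _ g rfl hpx (linkOK_spec hX hold hlx) hkx hg hk (Nat.le_of_ble_eq_true htx))
    (fun g ⟨i, hi, hg, hk⟩ => by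
      obtain ⟨⟨⟨⟨⟨⟨-, hty⟩, -⟩, hly⟩, -⟩, hky⟩, -⟩ := hchk' i hi
      exact step 1 Y T.py i _ g rfl hpy (linkOK_spec hX hold hly) hky hg hk (Nat.le_of_ble_eq_true hty))
  -- the kernel centralises `C`
  have hker : ∀ n ∈ π.ker, n ∈ H := by
    intro n hn
    obtain ⟨i, hi, hg, hk⟩ := hQ n
    rcases Nat.eq_zero_or_pos i with rfl | hpos
    · simpa [hroot, rep_zero] using hg
    · exfalso
      obtain ⟨-, hne⟩ := hchk' i hi
      simp only [Bool.or_eq_true, Bool.not_eq_true'] at hne
      rcases hne with h | h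
      · have := Nat.eq_of_beq_eq_true h; omega
      · refine Bool.eq_false_iff.1 h (allRange_intro fun j _ hj => ?_)
        obtain ⟨p, rfl⟩ : ∃ p, idx p = j := ⟨pt ⟨j, by omega⟩, by rw [idx_pt]⟩
        rw [Nat.beq_eq, ← hk p, ← hc0 p, MonoidHom.mem_ker.1 hn]
        simp
  have hcl : Subgroup.normalClosure {X} ≤ Subgroup.centralizer (π.ker : Set Γ) := by
    have : (Subgroup.centralizer (π.ker : Set Γ)).Normal := inferInstance
    refine Subgroup.normalClosure_le_normal ?_
    intro x hx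
    rw [Set.mem_singleton_iff.1 hx]
    have hCc : C ∈ Subgroup.centralizer (π.ker : Set Γ) := fun n hn =>
      (Subgroup.mem_centralizer_singleton_iff.1 (hker n hn))
    have h1 := conjEq_spec hX hY hc
    have h2 := Subgroup.Normal.conj_mem this C hCc (evalW X Y r)⁻¹
    rw [show evalW X Y [0] = X by simp [evalW, letter]] at h1
    rw [show C = evalW X Y r * X * (evalW X Y r)⁻¹ from h1] at h2
    simpa [mul_assoc] using h2
  intro n hn
  rw [Subgroup.mem_center_iff]
  intro g
  exact ((hperf ▸ hcl) (Subgroup.mem_top g) n hn).symm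

end

end Cfsg.Agent.M24Pres
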