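import Cfsg.Agent.Lib.M24Pres.Core
import Cfsg.Agent.Lib.M24Pres.Roots
import Cfsg.Agent.Lib.M24Pres.Data.Small
import Cfsg.Agent.Lib.M24Pres.Certs.Facts
import Cfsg.Agent.Lib.M24Pres.Certs.Roots

/-!
The seven relators in `x` and `y` of the presented fourth Janko group present the Mathieu group: every group
with two such generators receives it.
-/

set_option autoImplicit false
set_option maxRecDepth 100000

namespace Cfsg.Agent.M24Pres

open Cfsg Cfsg.Agent.Golay

noncomputable section

/-- A word repeated. -/
def pw : ℕ → List ℕ → List ℕ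
  | 0, _ => []
  | n + 1, w => w ++ pw n w

theorem evalW_pw {G : Type*} [Group G] (X Y : G) (w : List ℕ) : ∀ n, evalW X Y (pw n w) = evalW X Y w ^ n
  | 0 => by simp [pw, evalW]
  | n + 1 => by rw [pw, evalW_append, evalW_pw X Y w n, ← pow_succ']

theorem relators_eq : Data.relators = [pw 2 [0], pw 3 [1], pw 23 [0, 1], pw 12 [0, 2, 0, 1],
    pw 5 [0, 2, 0, 2, 0, 1, 0, 1], pw 4 ([0, 1] ++ pw 3 [0, 1, 0, 2]),
    pw 3 [0, 1, 0, 1, 0, 2] ++ pw 3 [0, 1, 0, 2, 0, 2]] := by
  decide +kernel

theorem seq_check : checkSeq Data.relators Data.smalls = true := by decide +kernel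

theorem relCert_check : Data.relCert.all (fun t => rotOK (Data.relators ++ Data.smalls.map Small.word) (mkRot t))
    = true := by decide +kernel

theorem subCert_check :
    Data.subCert.all (subOK Data.conjW (Data.relators ++ Data.smalls.map Small.word)) = true := by
  decide +kernel

theorem relCodes_eq : Data.relCert.map (fun t => t.2.2) = Data.relCodes := by decide +kernel

theorem subCodes_eq : Data.subCert.map (fun t => t.2.2) = Data.subCodes := by decide +kernel

theorem centW_check : conjEq Data.conjW [0] Data.centW = true := by decide +kernel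

theorem root_zero : rNode (Data.table.roots.get 0) = 0 := by decide +kernel

theorem table_size : 0 < Data.table.size := by decide +kernel

theorem tag_zero : ∀ p : GolayPt,
    idx (evalW J4Pres.px J4Pres.py Data.centW p) = pget (rTag (Data.table.roots.get 0)) (idx p) := by
  decide +kernel

theorem idx_px (p : GolayPt) : idx (J4Pres.px p) = pget Data.table.px (idx p) := by
  have h := J4Pres.elt_ok
  simp only [Bool.and_eq_true] at h
  exact idx_permOf h.1.1.1 p

theorem idx_py (p : GolayPt) : idx (J4Pres.py p) = pget Data.table.py (idx p) := by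
  have h := J4Pres.elt_ok
  simp only [Bool.and_eq_true] at h
  exact idx_permOf h.1.2 p

theorem map_letter {G K : Type*} [Group G] [Group K] (f : G →* K) (X Y : G) :
    ∀ a, f (letter X Y a) = letter (f X) (f Y) a
  | 0 => rfl
  | 1 => rfl
  | 2 => map_inv f Y
  | _ + 3 => map_one f

theorem map_evalW {G K : Type*} [Group G] [Group K] (f : G →* K) (X Y : G) (w : List ℕ) :
    f (evalW X Y w) = evalW (f X) (f Y) w := by
  simp only [evalW, map_list_prod, List.map_map]
  congr 1
  exact List.map_congr_left fun a _ => map_letter f X Y a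

theorem known_eq_one {G : Type*} [Group G] {X Y : G} (h : Rels X Y) :
    ∀ w ∈ Data.relators ++ Data.smalls.map Small.word, evalW X Y w = 1 := by
  have hX : X * X = 1 := by rw [← pow_two]; exact h.sq
  have hY : Y * Y * Y = 1 := by rw [← pow_two, ← pow_succ]; exact h.cube
  refine checkSeq_sound hX hY _ _ ?_ seq_check
  intro w hw
  rw [relators_eq] at hw
  have hXi : X⁻¹ = X := inv_eq_of_mul_eq_one_right hX
  simp only [List.mem_cons, List.not_mem_nil, or_false] at hw
  rcases hw with rfl | rfl | rfl | rfl | rfl | rfl | rfl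
  · rw [evalW_pw]; simpa [evalW, letter] using h.sq
  · rw [evalW_pw]; simpa [evalW, letter] using h.cube
  · rw [evalW_pw]; simpa [evalW, letter] using h.twentythree
  · rw [evalW_pw]; simpa [evalW, letter, hXi, mul_assoc] using h.twelve
  · rw [evalW_pw]; simpa [evalW, letter, hXi, mul_assoc] using h.five
  · rw [evalW_pw, evalW_append, evalW_pw]; simpa [evalW, letter, mul_assoc] using h.six
  · rw [evalW_append, evalW_pw, evalW_pw]; simpa [evalW, letter, mul_assoc] using h.seven

theorem ker_central {Γ : Type*} [Group Γ] {a b : Γ} (h : Rels a b) (hgen : Subgroup.closure {a, b} = ⊤)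
    (π : Γ →* Equiv.Perm GolayPt) (ha : π a = J4Pres.px) (hb : π b = J4Pres.py) :
    π.ker ≤ Subgroup.center Γ := by
  have hX : a * a = 1 := by rw [← pow_two]; exact h.sq
  have hY : b * b * b = 1 := by rw [← pow_two, ← pow_succ]; exact h.cube
  have hk := known_eq_one h
  have hrels : ∀ w ∈ Data.theLog.rels, evalW a b w = 1 := by
    intro w hw
    obtain ⟨v, hv, rfl⟩ := List.mem_map.1 hw
    rw [← relCodes_eq, List.mem_map] at hv
    obtain ⟨t, ht, rfl⟩ := hv
    exact rotOK_spec hX hY hk (List.all_eq_true.1 relCert_check t ht)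
  have hsubs : ∀ w ∈ Data.theLog.subs, evalW a b w ∈ Subgroup.centralizer {evalW a b Data.centW} := by
    intro w hw
    obtain ⟨v, hv, rfl⟩ := List.mem_map.1 hw
    rw [← subCodes_eq, List.mem_map] at hv
    obtain ⟨t, ht, rfl⟩ := hv
    exact subOK_spec hX hY hk centW_check (List.all_eq_true.1 subCert_check t ht)
  refine ker_le_center π hX hY hgen (h.normalClosure_eq_top hgen) Data.table Data.centW Data.conjW
    (fun p => by rw [ha]; exact idx_px p) (fun p => by rw [hb]; exact idx_py p) centW_check root_zero
    (fun p => by rw [map_evalW, ha, hb]; exact tag_zero p) ?_ table_size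
    (fun i hi => Certs.roots_all i (Nat.zero_le i) hi)
  exact holds_of_check (L := Data.theLog) hX hrels hsubs (m := Data.table.count)
    (fun j h1 h2 => Certs.facts_all j h1 (Nat.lt_succ_of_le h2))

/-- A group with generators satisfying the seven relators receives the Mathieu group. -/
theorem exists_hom {G : Type} [Group G] {X Y : G} (h : Rels X Y) :
    ∃ φ : M24 →* G, φ J4Pres.gx = X ∧ φ J4Pres.gy = Y := by
  let P : Subgroup (M24 × G) := Subgroup.closure {(J4Pres.gx, X), (J4Pres.gy, Y)}
  let a : P := ⟨(J4Pres.gx, X), Subgroup.subset_closure (by simp)⟩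
  let b : P := ⟨(J4Pres.gy, Y), Subgroup.subset_closure (by simp)⟩
  have hr : Rels a b := Rels.of_injective P.subtype P.subtype_injective (rels_m24.prod h)
  have hgen : Subgroup.closure {a, b} = (⊤ : Subgroup P) := by
    apply Subgroup.map_injective (f := P.subtype) P.subtype_injective
    rw [MonoidHom.map_closure, ← MonoidHom.range_eq_map, Subgroup.range_subtype]
    simp [Set.image_insert_eq, P, a, b]
  let π : P →* M24 := (MonoidHom.fst _ _).comp P.subtype
  have hs : Function.Surjective π := by
    rw [← MonoidHom.range_eq_top, eq_top_iff, ← J4Pres.closure_gx_gy, Subgroup.closure_le]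
    rintro z (rfl | rfl)
    exacts [⟨a, rfl⟩, ⟨b, rfl⟩]
  have hc : π.ker ≤ Subgroup.center P := by
    have h1 := ker_central hr hgen (M24.subtype.comp π) rfl rfl
    rwa [MonoidHom.ker_comp_of_injective _ _ M24.subtype_injective] at h1
  have hi := injective_of_central π hs hc (hr.commutator_eq_top hgen)
  let e : P ≃* M24 := MulEquiv.ofBijective π ⟨hi, hs⟩
  refine ⟨((MonoidHom.snd _ _).comp P.subtype).comp e.symm.toMonoidHom, ?_, ?_⟩
  · have : e.symm J4Pres.gx = a := e.injective (by rw [e.apply_symm_apply]; rfl)
    simp [this, a]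
  · have : e.symm J4Pres.gy = b := e.injective (by rw [e.apply_symm_apply]; rfl)
    simp [this, b]

/-- The map from the Mathieu group. -/
def hom {G : Type} [Group G] {X Y : G} (h : Rels X Y) : M24 →* G := (exists_hom h).choose

theorem hom_gx {G : Type} [Group G] {X Y : G} (h : Rels X Y) : hom h J4Pres.gx = X :=
  (exists_hom h).choose_spec.1

theorem hom_gy {G : Type} [Group G] {X Y : G} (h : Rels X Y) : hom h J4Pres.gy = Y :=
  (exists_hom h).choose_spec.2

end

end Cfsg.Agent.M24Pres
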