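import Mathlib.GroupTheory.Index
import Mathlib.Tactic.Group

/-!
Kernel checked derivation logs for two-generated groups with an involution `X` and a second generator `Y`.

Letters `0, 1, 2` stand for `X, Y, Y⁻¹`, the letter `3` for the empty word. A log is a numbered list of
facts; fact `j` says `r a * x * (r b)⁻¹ ∈ H` for nodes `a`, `b` and a letter `x`, where `r` is the family of
representatives: node `j` is defined by fact `j` if that fact is a definition, and node `0` is the base.
Each fact is justified by earlier facts only, so that the checks are independent of each other.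
-/

set_option autoImplicit false

namespace Cfsg.Agent.M24Pres

noncomputable section

/-! ### Letters and words -/

/-- The inverse letter. -/
def invL : ℕ → ℕ
  | 0 => 0
  | 1 => 2
  | 2 => 1
  | _ + 3 => 3

variable {G : Type*} [Group G]

/-- The value of a letter. -/
def letter (X Y : G) : ℕ → G
  | 0 => X
  | 1 => Y
  | 2 => Y⁻¹
  | _ + 3 => 1

/-- The value of a word. -/
def evalW (X Y : G) (w : List ℕ) : G := (w.map (letter X Y)).prod

theorem letter_invL {X Y : G} (hX : X * X = 1) : ∀ a, letter X Y (invL a) = (letter X Y a)⁻¹
  | 0 => eq_inv_of_mul_eq_one_left hX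
  | 1 => rfl
  | 2 => (inv_inv Y).symm
  | _ + 3 => inv_one.symm

theorem evalW_nil (X Y : G) : evalW X Y [] = 1 := rfl

theorem evalW_cons (X Y : G) (a : ℕ) (w : List ℕ) : evalW X Y (a :: w) = letter X Y a * evalW X Y w := by
  simp [evalW]

theorem evalW_append (X Y : G) (u v : List ℕ) : evalW X Y (u ++ v) = evalW X Y u * evalW X Y v := by
  simp [evalW]

/-- One step of free reduction on a stack. -/
def push (st : List ℕ) (x : ℕ) : List ℕ :=
  match Nat.ble 3 x, st with
  | true, st => st
  | false, [] => [x]
  | false, y :: st => bif Nat.beq y (invL x) then st else x :: y :: st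

/-- Free reduction. -/
def reduce (w : List ℕ) : List ℕ := (w.foldl push []).reverse

theorem evalW_push {X Y : G} (hX : X * X = 1) (st : List ℕ) (x : ℕ) :
    evalW X Y (push st x).reverse = evalW X Y st.reverse * letter X Y x := by
  unfold push
  split
  · rename_i h
    have hx : 3 ≤ x := Nat.le_of_ble_eq_true h
    obtain ⟨m, rfl⟩ : ∃ m, x = m + 3 := ⟨x - 3, by omega⟩
    simp [letter]
  · simp [evalW]
  · rename_i y st' _
    cases h : Nat.beq y (invL x)
    · simp [evalW, List.map_append, mul_assoc]
    · obtain rfl := Nat.eq_of_beq_eq_true h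
      simp [evalW, List.map_append, letter_invL hX, mul_assoc]

theorem evalW_foldl {X Y : G} (hX : X * X = 1) : ∀ (w st : List ℕ),
    evalW X Y (w.foldl push st).reverse = evalW X Y st.reverse * evalW X Y w
  | [], st => by simp [evalW]
  | a :: w, st => by
    rw [List.foldl_cons, evalW_foldl hX w, evalW_push hX, evalW_cons, mul_assoc]

theorem evalW_reduce {X Y : G} (hX : X * X = 1) (w : List ℕ) : evalW X Y (reduce w) = evalW X Y w := by
  rw [reduce, evalW_foldl hX]; simp [evalW]

/-- Boolean equality of words. -/
def wEq : List ℕ → List ℕ → Bool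
  | [], [] => true
  | x :: u, y :: v => Nat.beq x y && wEq u v
  | _, _ => false

theorem eq_of_wEq : ∀ {u v : List ℕ}, wEq u v = true → u = v
  | [], [], _ => rfl
  | [], _ :: _, h => by simp [wEq] at h
  | _ :: _, [], h => by simp [wEq] at h
  | x :: u, y :: v, h => by
    simp only [wEq, Bool.and_eq_true] at h
    rw [Nat.eq_of_beq_eq_true h.1, eq_of_wEq h.2]

/-! ### Tables -/

/-- A binary trie. -/
inductive Trie (α : Type) where
  | leaf (v : α)
  | node (l r : Trie α)

/-- Look up, the lowest bit first. -/
def Trie.get {α : Type} (t : Trie α) : ℕ → α :=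
  Trie.rec (fun v _ => v)
    (fun _ _ l r i => Bool.rec (r (Nat.div i 2)) (l (Nat.div i 2)) (Nat.beq (Nat.mod i 2) 0)) t

/-- Packed entries in blocks of 1024. -/
abbrev Store := Trie (Trie ℕ)

/-- An entry of a store. -/
def Store.get (t : Store) (i : ℕ) : ℕ := (Trie.get t (Nat.div i 1024)).get (Nat.mod i 1024)

/-- A bit field. -/
def fld (v off wid : ℕ) : ℕ := Nat.mod (Nat.shiftRight v off) (2 ^ wid)

/-! Layout of a fact: `a : 20`, `b : 20`, `c : 20`, `x : 2`, `kind : 2`, `id : 10`, `np : 10`, `nq : 10`,
then links of 21 bits, the lowest bit being the orientation (`1` = backwards). -/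

/-- Start node. -/
def fA (v : ℕ) : ℕ := fld v 0 20
/-- End node. -/
def fB (v : ℕ) : ℕ := fld v 20 20
/-- Anchor. -/
def fC (v : ℕ) : ℕ := fld v 40 20
/-- Letter. -/
def fX (v : ℕ) : ℕ := fld v 60 2
/-- Kind: definition, relator, subgroup word, free. -/
def fK (v : ℕ) : ℕ := fld v 62 2
/-- Index of the relator or subgroup word. -/
def fI (v : ℕ) : ℕ := fld v 64 10
/-- Length of the first chain. -/
def fP (v : ℕ) : ℕ := fld v 74 10
/-- Length of the second chain. -/
def fQ (v : ℕ) : ℕ := fld v 84 10

/-- `n` links read from a packed number. -/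
def links : ℕ → ℕ → List ℕ
  | 0, _ => []
  | n + 1, v => Nat.mod v 2097152 :: links n (Nat.shiftRight v 21)

/-- The first chain. -/
def linksP (v : ℕ) : List ℕ := links (fP v) (Nat.shiftRight v 94)
/-- The second chain. -/
def linksQ (v : ℕ) : List ℕ := links (fQ v) (Nat.shiftRight v (94 + 21 * fP v))

/-- A certificate: facts, relator list, subgroup words. -/
structure Log where
  facts : Store
  rels : List (List ℕ)
  subs : List (List ℕ)

variable (L : Log)

/-- Follow a chain of facts numbered in `[1, bound)`. -/
def chain (bound : ℕ) : List ℕ → ℕ → Option (ℕ × List ℕ)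
  | [], cur => some (cur, [])
  | l :: ls, cur =>
    let i := Nat.div l 2
    bif Nat.blt i bound && Nat.blt 0 i then
      let v := L.facts.get i
      bif Nat.beq (Nat.mod l 2) 0 then
        (bif Nat.beq (fA v) cur then
          match chain bound ls (fB v) with
          | some (e, w) => some (e, fX v :: w)
          | none => none
        else none)
      else
        (bif Nat.beq (fB v) cur then
          match chain bound ls (fA v) with
          | some (e, w) => some (e, invL (fX v) :: w)
          | none => none
        else none)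
    else none

/-- The word justified by a fact. -/
def target (v : ℕ) : Option (List ℕ) :=
  match fK v with
  | 1 => L.rels[fI v]?
  | 2 => bif Nat.beq (fC v) 0 then L.subs[fI v]? else none
  | 3 => some []
  | _ => none

/-- Check of fact `j`. -/
def checkFact (j : ℕ) : Bool :=
  let v := L.facts.get j
  bif Nat.beq (fK v) 0 then Nat.blt (fA v) j && Nat.beq (fB v) j
  else
    match chain L j (linksP v) (fC v), chain L j (linksQ v) (fB v), target L v with
    | some (ea, wp), some (ec, wq), some t =>
      Nat.beq ea (fA v) && Nat.beq ec (fC v) && wEq (reduce (wp ++ fX v :: wq)) t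
    | _, _, _ => false

/-- `f (s + i)` for all `i < n`. -/
def allRange (f : ℕ → Bool) (s : ℕ) (n : ℕ) : Bool :=
  Nat.rec true (fun i r => Bool.rec false r (f (s + i))) n

theorem allRange_spec {f : ℕ → Bool} {s : ℕ} :
    ∀ {n : ℕ}, allRange f s n = true → ∀ j, s ≤ j → j < s + n → f j = true := by
  intro n
  induction n with
  | zero => intro _ j h1 h2; omega
  | succ n ih =>
    intro h j h1 h2
    change Bool.rec false (allRange f s n) (f (s + n)) = true at h
    cases hf : f (s + n) with
    | false => rw [hf] at h; exact Bool.noConfusion h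
    | true =>
      rw [hf] at h
      rcases Nat.lt_or_ge j (s + n) with h3 | h3
      · exact ih h j h1 h3
      · rw [show j = s + n by omega]; exact hf

/-! ### Soundness -/

variable (X Y : G)

/-- The representatives of the nodes. -/
def rep : ℕ → G
  | 0 => 1
  | j + 1 =>
    if _h : fK (L.facts.get (j + 1)) = 0 ∧ fA (L.facts.get (j + 1)) ≤ j then
      rep (fA (L.facts.get (j + 1))) * letter X Y (fX (L.facts.get (j + 1)))
    else 1
  termination_by j => j
  decreasing_by omega

theorem rep_zero : rep L X Y 0 = 1 := by rw [rep]

variable {L X Y}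

/-- The meaning of fact `j`. -/
def Holds (L : Log) (X Y : G) (H : Subgroup G) (j : ℕ) : Prop :=
  rep L X Y (fA (L.facts.get j)) * letter X Y (fX (L.facts.get j)) *
    (rep L X Y (fB (L.facts.get j)))⁻¹ ∈ H

variable {H : Subgroup G}

theorem chain_sound (hX : X * X = 1) {bound : ℕ} (hold : ∀ i, 1 ≤ i → i < bound → Holds L X Y H i) :
    ∀ (ls : List ℕ) (cur e : ℕ) (w : List ℕ), chain L bound ls cur = some (e, w) →
      rep L X Y cur * evalW X Y w * (rep L X Y e)⁻¹ ∈ H := by
  intro ls
  induction ls with
  | nil =>
    intro cur e w h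
    simp only [chain, Option.some.injEq, Prod.mk.injEq] at h
    obtain ⟨rfl, rfl⟩ := h
    simp [evalW]
  | cons l ls ih =>
    intro cur e w h
    simp only [chain] at h
    cases hb : (Nat.blt (Nat.div l 2) bound && Nat.blt 0 (Nat.div l 2))
    · simp [hb] at h
    rw [hb, cond_true] at h
    simp only [Bool.and_eq_true, Nat.blt_eq] at hb
    have hi := hold _ hb.2 hb.1
    unfold Holds at hi
    generalize L.facts.get (Nat.div l 2) = v at h hi
    cases hd : Nat.beq (Nat.mod l 2) 0
    · rw [hd, cond_false] at h
      cases hcur : Nat.beq (fB v) cur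
      · simp [hcur] at h
      rw [hcur, cond_true] at h
      obtain rfl := Nat.eq_of_beq_eq_true hcur
      cases hc : chain L bound ls (fA v) with
      | none => simp [hc] at h
      | some p =>
        obtain ⟨e', w'⟩ := p
        simp only [hc, Option.some.injEq, Prod.mk.injEq] at h
        obtain ⟨rfl, rfl⟩ := h
        convert mul_mem (inv_mem hi) (ih _ _ _ hc) using 1
        rw [evalW_cons, letter_invL hX]
        group
    · rw [hd, cond_true] at h
      cases hcur : Nat.beq (fA v) cur
      · simp [hcur] at h
      rw [hcur, cond_true] at h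
      obtain rfl := Nat.eq_of_beq_eq_true hcur
      cases hc : chain L bound ls (fB v) with
      | none => simp [hc] at h
      | some p =>
        obtain ⟨e', w'⟩ := p
        simp only [hc, Option.some.injEq, Prod.mk.injEq] at h
        obtain ⟨rfl, rfl⟩ := h
        convert mul_mem hi (ih _ _ _ hc) using 1
        rw [evalW_cons]
        group

/-- Checked facts hold. -/
theorem holds_of_check (hX : X * X = 1) (hrels : ∀ w ∈ L.rels, evalW X Y w = 1)
    (hsubs : ∀ w ∈ L.subs, evalW X Y w ∈ H) {m : ℕ}
    (hchk : ∀ j, 1 ≤ j → j ≤ m → checkFact L j = true) :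
    ∀ j, 1 ≤ j → j ≤ m → Holds L X Y H j := by
  intro j
  induction j using Nat.strong_induction_on with
  | _ j ih =>
    intro hj1 hjm
    have hc := hchk j hj1 hjm
    unfold checkFact at hc
    dsimp only at hc
    unfold Holds
    obtain ⟨k, rfl⟩ : ∃ k, j = k + 1 := ⟨j - 1, by omega⟩
    generalize hv : L.facts.get (k + 1) = v at hc ⊢
    cases hk : Nat.beq (fK v) 0
    · rw [hk, cond_false] at hc
      split at hc
      · rename_i ea wp ec wq t hp hq ht
        simp only [Bool.and_eq_true] at hc
        obtain ⟨⟨he1, he2⟩, he3⟩ := hc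
        obtain rfl := Nat.eq_of_beq_eq_true he1
        obtain rfl := Nat.eq_of_beq_eq_true he2
        have hold : ∀ i, 1 ≤ i → i < k + 1 → Holds L X Y H i := fun i h1 h2 => ih i h2 h1 (by omega)
        have h1 := chain_sound hX hold _ _ _ _ hp
        have h2 := chain_sound hX hold _ _ _ _ hq
        have h3 : rep L X Y (fC v) * evalW X Y t * (rep L X Y (fC v))⁻¹ ∈ H := by
          unfold target at ht
          split at ht
          · rw [hrels t (List.mem_of_getElem? ht)]; simp
          · cases hz : Nat.beq (fC v) 0
            · simp [hz] at ht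
            rw [hz, cond_true] at ht
            rw [Nat.eq_of_beq_eq_true hz, rep_zero]
            simpa using hsubs t (List.mem_of_getElem? ht)
          · obtain rfl := Option.some.inj ht
            simp [evalW]
          · simp at ht
        rw [← eq_of_wEq he3, evalW_reduce hX, evalW_append, evalW_cons] at h3
        convert mul_mem (mul_mem (inv_mem h1) h3) (inv_mem h2) using 1
        group
      · exact Bool.noConfusion hc
    · rw [hk, cond_true] at hc
      simp only [Bool.and_eq_true, Nat.blt_eq] at hc
      have hb := Nat.eq_of_beq_eq_true hc.2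
      have hr : rep L X Y (k + 1) = rep L X Y (fA v) * letter X Y (fX v) := by
        rw [rep, hv, dif_pos ⟨Nat.eq_of_beq_eq_true hk, by omega⟩]
      rw [hb, hr]; simp

/-- A checked path from the base back to the base puts its word in the subgroup. -/
theorem mem_of_path (hX : X * X = 1) {m : ℕ} (hold : ∀ j, 1 ≤ j → j ≤ m → Holds L X Y H j)
    {path w q : List ℕ} (h : chain L (m + 1) path 0 = some (0, w))
    (hq : wEq (reduce w) (reduce q) = true) : evalW X Y q ∈ H := by
  have h1 := chain_sound hX (fun i a b => hold i a (by omega)) _ _ _ _ h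
  rw [rep_zero] at h1
  rw [← evalW_reduce hX q, ← eq_of_wEq hq, evalW_reduce hX]
  simpa using h1

end

end Cfsg.Agent.M24Pres
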