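import Cfsg.Agent.Lib.J4Pres.Points
import Cfsg.Agent.S2038
import Cfsg.Prelude.Def_KGroupFacts
import Mathlib.GroupTheory.Schreier
import Mathlib.GroupTheory.Abelianization.Defs

/-!
A group with two generators satisfying the seven relators that lies over the Mathieu group with central
kernel is the Mathieu group: it is perfect, so it is finite by Schur and the multiplier is trivial.
-/

set_option autoImplicit false

namespace Cfsg.Agent.M24Pres

open Cfsg
open scoped commutatorElement

noncomputable section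

/-- The seven relators. -/
structure Rels {G : Type*} [Group G] (X Y : G) : Prop where
  sq : X ^ 2 = 1
  cube : Y ^ 3 = 1
  twentythree : (X * Y) ^ 23 = 1
  twelve : (X⁻¹ * Y⁻¹ * X * Y) ^ 12 = 1
  five : (X⁻¹ * (Y * X * Y)⁻¹ * X * (Y * X * Y)) ^ 5 = 1
  six : (X * Y * ((X * Y * X * Y⁻¹) ^ 3)) ^ 4 = 1
  seven : ((X * Y * X * Y * X * Y⁻¹) ^ 3) * ((X * Y * X * Y⁻¹ * X * Y⁻¹) ^ 3) = 1

theorem rels_m24 : Rels J4Pres.gx J4Pres.gy :=
  ⟨J4Pres.rel_sq, J4Pres.rel_cube, J4Pres.rel_twentythree, J4Pres.rel_twelve, J4Pres.rel_five,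
    J4Pres.rel_six, J4Pres.rel_seven⟩

theorem Rels.map {G K : Type*} [Group G] [Group K] {X Y : G} (h : Rels X Y) (f : G →* K) :
    Rels (f X) (f Y) := by
  constructor <;> simp only [← map_mul, ← map_inv, ← map_pow, h.sq, h.cube, h.twentythree, h.twelve, h.five,
    h.six, h.seven, map_one]

theorem Rels.prod {G K : Type*} [Group G] [Group K] {X Y : G} {X' Y' : K} (h : Rels X Y) (h' : Rels X' Y') :
    Rels (X, X') (Y, Y') := by
  constructor <;> refine Prod.ext ?_ ?_ <;>
    simp only [Prod.fst_mul, Prod.snd_mul, Prod.pow_fst, Prod.pow_snd, Prod.fst_inv, Prod.snd_inv,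
      Prod.fst_one, Prod.snd_one, h.sq, h.cube, h.twentythree, h.twelve, h.five, h.six, h.seven,
      h'.sq, h'.cube, h'.twentythree, h'.twelve, h'.five, h'.six, h'.seven]

theorem Rels.of_injective {G K : Type*} [Group G] [Group K] {X Y : G} (f : G →* K)
    (hf : Function.Injective f) (h : Rels (f X) (f Y)) : Rels X Y := by
  constructor <;> apply hf <;> simp only [map_mul, map_inv, map_pow, map_one, h.sq, h.cube, h.twentythree,
    h.twelve, h.five, h.six, h.seven]

variable {G : Type*} [Group G] {X Y : G}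

/-- In a commutative group the relators leave nothing. -/
theorem Rels.trivial_of_comm {A : Type*} [CommGroup A] {a b : A} (h : Rels a b) : a = 1 ∧ b = 1 := by
  have h23 := h.twentythree
  have ha : a ^ 23 = a := by
    rw [show (23 : ℕ) = 2 * 11 + 1 from rfl, pow_succ, pow_mul, h.sq, one_pow, one_mul]
  have hb : b ^ 23 = b ^ 2 := by
    rw [show (23 : ℕ) = 3 * 7 + 2 from rfl, pow_add, pow_mul, h.cube, one_pow, one_mul]
  rw [mul_pow, ha, hb] at h23
  have hab : a = b := by
    calc a = a * b ^ 2 * b := by rw [mul_assoc, ← pow_succ, h.cube, mul_one]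
      _ = b := by rw [h23, one_mul]
  subst hab
  have : a = 1 := by
    calc a = a ^ 2 * a := by rw [h.sq, one_mul]
      _ = 1 := by rw [← pow_succ, h.cube]
  exact ⟨this, this⟩

theorem Rels.commutator_eq_top (h : Rels X Y) (hgen : Subgroup.closure {X, Y} = ⊤) :
    commutator G = ⊤ := by
  have h1 := (h.map (Abelianization.of (G := G))).trivial_of_comm
  rw [← Abelianization.ker_of, eq_top_iff, ← hgen, Subgroup.closure_le]
  rintro z (rfl | rfl)
  exacts [h1.1, h1.2]

theorem Rels.normalClosure_eq_top (h : Rels X Y) (hgen : Subgroup.closure {X, Y} = ⊤) :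
    Subgroup.normalClosure {X} = ⊤ := by
  have hx : X ∈ Subgroup.normalClosure {X} := Subgroup.subset_normalClosure rfl
  have h' := h.map (QuotientGroup.mk' (Subgroup.normalClosure {X}))
  have h1 : QuotientGroup.mk' (Subgroup.normalClosure {X}) X = 1 := (QuotientGroup.eq_one_iff _).2 hx
  have hy : QuotientGroup.mk' (Subgroup.normalClosure {X}) Y = 1 := by
    have e23 := h'.twentythree
    rw [h1, one_mul, show (23 : ℕ) = 3 * 7 + 2 from rfl, pow_add, pow_mul, h'.cube, one_pow, one_mul] at e23
    have := h'.cube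
    rw [pow_succ, e23, one_mul] at this
    exact this
  rw [eq_top_iff, ← hgen, Subgroup.closure_le]
  rintro z (rfl | rfl)
  exacts [hx, (QuotientGroup.eq_one_iff _).1 hy]

/-- A perfect central extension of the Mathieu group is trivial. -/
theorem injective_of_central {P : Type} [Group P] (π : P →* M24) (hs : Function.Surjective π)
    (hc : π.ker ≤ Subgroup.center P) (hp : commutator P = ⊤) : Function.Injective π := by
  have : Finite (P ⧸ π.ker) := Finite.of_equiv _ (QuotientGroup.quotientKerEquivOfSurjective π hs).symm.toEquiv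
  have : Finite (commutatorSet P) := by
    let f : (P ⧸ π.ker) × (P ⧸ π.ker) → P := fun q => ⁅q.1.out, q.2.out⁆
    refine Set.Finite.to_subtype ((Set.finite_range f).subset ?_)
    rintro _ ⟨a, b, rfl⟩
    refine ⟨((a : P ⧸ π.ker), (b : P ⧸ π.ker)), ?_⟩
    have key : ∀ a : P, ∃ z ∈ Subgroup.center P, Quotient.out (a : P ⧸ π.ker) = a * z := fun a => by
      obtain ⟨z, hz⟩ := QuotientGroup.mk_out_eq_mul π.ker a
      exact ⟨z, hc z.2, hz⟩
    obtain ⟨z, hz, ez⟩ := key a
    obtain ⟨w, hw, ew⟩ := key b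
    show ⁅Quotient.out (a : P ⧸ π.ker), Quotient.out (b : P ⧸ π.ker)⁆ = ⁅a, b⁆
    rw [ez, ew, commutatorElement_def, commutatorElement_def]
    rw [Subgroup.mem_center_iff] at hz hw
    have e1 : a * z * (b * w) = a * b * (z * w) := by
      rw [mul_assoc a z, ← mul_assoc z b, ← hz b, mul_assoc b, ← mul_assoc a]
    have e2 : b * w * (a * z) = b * a * (z * w) := by
      rw [mul_assoc b w, ← mul_assoc w a, ← hw a, mul_assoc a w, ← hw z, ← mul_assoc b]
    calc a * z * (b * w) * (a * z)⁻¹ * (b * w)⁻¹ = a * z * (b * w) * (b * w * (a * z))⁻¹ := by group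
      _ = a * b * a⁻¹ * b⁻¹ := by rw [e1, e2]; group
  have : Finite P := by
    have h := (inferInstance : Finite (commutator P))
    rw [hp] at h
    exact Finite.of_equiv _ Subgroup.topEquiv.toEquiv
  obtain ⟨σ, hσ⟩ := (S2038.result).2 P π ⟨hs, hc, hp ▸ le_top⟩
  rw [← MonoidHom.ker_eq_bot_iff, eq_bot_iff]
  intro n hn
  obtain ⟨z, hz⟩ := hσ ⟨n, hn⟩
  rw [Subsingleton.elim z 1, map_one] at hz
  exact (congrArg Subtype.val hz).symm

end

end Cfsg.Agent.M24Pres
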