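import Cfsg.Agent.Lib.M24Pres.Words

/-!
The table of coset roots with permutation tags and its Boolean check.
-/

set_option autoImplicit false

namespace Cfsg.Agent.M24Pres

noncomputable section

theorem allRange_intro {f : ℕ → Bool} {s : ℕ} :
    ∀ {n : ℕ}, (∀ j, s ≤ j → j < s + n → f j = true) → allRange f s n = true := by
  intro n
  induction n with
  | zero => intro _; rfl
  | succ n ih =>
    intro h
    change Bool.rec false (allRange f s n) (f (s + n)) = true
    rw [h (s + n) (by omega) (by omega)]
    exact ih fun j h1 h2 => h j h1 (by omega)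

/-! An entry: node `20`, then link `21` and target root `15` for `X`, the same for `Y`, and the tag `120`. -/

/-- Node of a root. -/
def rNode (v : ℕ) : ℕ := fld v 0 20
/-- Link for `X`. -/
def rLX (v : ℕ) : ℕ := fld v 20 21
/-- Target for `X`. -/
def rTX (v : ℕ) : ℕ := fld v 41 15
/-- Link for `Y`. -/
def rLY (v : ℕ) : ℕ := fld v 56 21
/-- Target for `Y`. -/
def rTY (v : ℕ) : ℕ := fld v 77 15
/-- Tag. -/
def rTag (v : ℕ) : ℕ := fld v 92 120

/-- Image of a point under a coded map. -/
def pget (v p : ℕ) : ℕ := fld v (5 * p) 5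

/-- The link joins two nodes by one letter. -/
def linkOK (L : Log) (bound s link a b : ℕ) : Bool :=
  match chain L bound [link] a with
  | some (e, w) => Nat.beq e b && wEq w [s]
  | none => false

/-- Tags along an edge. -/
def tagOK (S κ κ' : ℕ) : Bool :=
  allRange (fun p => Nat.blt (pget κ' p) 24 && Nat.beq (pget κ (pget S p)) (pget S (pget κ' p))) 0 24

/-- The data of the roots. -/
structure Table where
  log : Log
  count : ℕ
  size : ℕ
  roots : Store
  px : ℕ
  py : ℕ

/-- Check of a root. -/
def Table.check (T : Table) (i : ℕ) : Bool :=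
  let v := T.roots.get i
  let vx := T.roots.get (rTX v)
  let vy := T.roots.get (rTY v)
  Nat.blt (rTX v) T.size && Nat.blt (rTY v) T.size &&
    linkOK T.log (T.count + 1) 0 (rLX v) (rNode v) (rNode vx) &&
    linkOK T.log (T.count + 1) 1 (rLY v) (rNode v) (rNode vy) &&
    tagOK T.px (rTag v) (rTag vx) && tagOK T.py (rTag v) (rTag vy) &&
    (Nat.beq i 0 || !allRange (fun p => Nat.beq (pget (rTag v) p) (pget (rTag (T.roots.get 0)) p)) 0 24)

end

end Cfsg.Agent.M24Pres
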