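import Cfsg.Agent.Lib.M24Pres.Check

/-!
Normal forms of words in an involution and an element of order three, and chains of small derivations:
each derivation adds one word with trivial value to the known ones.
-/

set_option autoImplicit false

namespace Cfsg.Agent.M24Pres

noncomputable section

variable {G : Type*} [Group G] {X Y : G}

/-- `n` letters read from a packed number. -/
def takeW : ℕ → ℕ → List ℕ
  | 0, _ => []
  | n + 1, v => Nat.mod v 4 :: takeW n (Nat.shiftRight v 2)

/-- A word packed as length (`12` bits) and letters (`2` bits each). -/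
def wordOf (v : ℕ) : List ℕ := takeW (fld v 0 12) (Nat.shiftRight v 12)

/-- The inverse word. -/
def invW (w : List ℕ) : List ℕ := w.reverse.map invL

theorem evalW_invW (hX : X * X = 1) : ∀ w : List ℕ, evalW X Y (invW w) = (evalW X Y w)⁻¹
  | [] => by simp [invW, evalW]
  | a :: w => by
    have ih := evalW_invW hX w
    simp only [invW] at ih ⊢
    rw [List.reverse_cons, List.map_append, evalW_append, ih, evalW_cons, mul_inv_rev]
    simp [evalW, letter_invL hX]

/-- One step of reduction to normal form on a stack. -/
def push3 : List ℕ → ℕ → List ℕ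
  | [], x => bif Nat.ble 3 x then [] else [x]
  | y :: st, x =>
    bif Nat.ble 3 x then y :: st
    else bif Nat.beq y (invL x) then st
    else bif Nat.beq y x then push3 st (invL x)
    else x :: y :: st

/-- The normal form. -/
def norm3 (w : List ℕ) : List ℕ := (w.foldl push3 []).reverse

theorem letter_sq (hX : X * X = 1) (hY : Y * Y * Y = 1) : ∀ x,
    letter X Y x * letter X Y x = letter X Y (invL x) ∨ x = 0
  | 0 => Or.inr rfl
  | 1 => Or.inl (eq_inv_of_mul_eq_one_left hY)
  | 2 => Or.inl (show Y⁻¹ * Y⁻¹ = Y by rw [← mul_inv_rev]; exact inv_eq_of_mul_eq_one_right hY)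
  | _ + 3 => Or.inl (one_mul 1)

theorem evalW_push3 (hX : X * X = 1) (hY : Y * Y * Y = 1) : ∀ (st : List ℕ) (x : ℕ),
    evalW X Y (push3 st x).reverse = evalW X Y st.reverse * letter X Y x
  | [], x => by
    cases h : Nat.ble 3 x
    · simp [push3, h, evalW]
    · obtain ⟨m, rfl⟩ : ∃ m, x = m + 3 := ⟨x - 3, by have := Nat.le_of_ble_eq_true h; omega⟩
      simp [push3, h, evalW, letter]
  | y :: st, x => by
    unfold push3
    cases h : Nat.ble 3 x
    · cases h1 : Nat.beq y (invL x)
      · cases h2 : Nat.beq y x
        · simp [evalW, mul_assoc]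
        · obtain rfl := Nat.eq_of_beq_eq_true h2
          rcases letter_sq hX hY y with h3 | rfl
          · simp only [cond_false, cond_true]
            rw [evalW_push3 hX hY st, ← h3]
            simp [evalW, mul_assoc]
          · simp [invL] at h1
      · obtain rfl := Nat.eq_of_beq_eq_true h1
        simp [evalW, letter_invL hX, mul_assoc]
    · obtain ⟨m, rfl⟩ : ∃ m, x = m + 3 := ⟨x - 3, by have := Nat.le_of_ble_eq_true h; omega⟩
      simp [letter]

theorem evalW_norm3 (hX : X * X = 1) (hY : Y * Y * Y = 1) (w : List ℕ) :
    evalW X Y (norm3 w) = evalW X Y w := by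
  suffices h : ∀ (w st : List ℕ),
      evalW X Y (w.foldl push3 st).reverse = evalW X Y st.reverse * evalW X Y w by
    rw [norm3, h]; simp [evalW]
  intro w
  induction w with
  | nil => intro st; simp [evalW]
  | cons a w ih => intro st; rw [List.foldl_cons, ih, evalW_push3 hX hY, evalW_cons, mul_assoc]

/-- `w` equals `v` conjugated by `u`, by normal forms. -/
def conjEq (u v w : List ℕ) : Bool := wEq (norm3 (u ++ v ++ invW u)) (norm3 w)

theorem conjEq_spec (hX : X * X = 1) (hY : Y * Y * Y = 1) {u v w : List ℕ} (h : conjEq u v w = true) :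
    evalW X Y w = evalW X Y u * evalW X Y v * (evalW X Y u)⁻¹ := by
  rw [← evalW_norm3 hX hY w, ← eq_of_wEq h, evalW_norm3 hX hY, evalW_append, evalW_append, evalW_invW hX]

/-- A relator of a derivation: a known word conjugated. -/
structure Rot where
  src : ℕ
  conj : List ℕ
  word : List ℕ

/-- A relator from its packed description. -/
def mkRot (t : ℕ × ℕ × ℕ) : Rot := ⟨t.1, wordOf t.2.1, wordOf t.2.2⟩

/-- The source of a relator. -/
def rotOK (known : List (List ℕ)) (r : Rot) : Bool :=
  match known[r.src]? with
  | some k => conjEq r.conj r.word k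
  | none => false

theorem rotOK_spec (hX : X * X = 1) (hY : Y * Y * Y = 1) {known : List (List ℕ)}
    (hk : ∀ w ∈ known, evalW X Y w = 1) {r : Rot} (h : rotOK known r = true) :
    evalW X Y r.word = 1 := by
  unfold rotOK at h
  split at h
  · rename_i k hkk
    have h1 := conjEq_spec hX hY h
    rw [hk k (List.mem_of_getElem? hkk)] at h1
    exact conj_eq_one_iff.1 h1.symm
  · exact Bool.noConfusion h

theorem rots_spec (hX : X * X = 1) (hY : Y * Y * Y = 1) {known : List (List ℕ)}
    (hk : ∀ w ∈ known, evalW X Y w = 1) {rs : List Rot} (h : rs.all (rotOK known) = true) :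
    ∀ w ∈ rs.map Rot.word, evalW X Y w = 1 := by
  intro w hw
  obtain ⟨r, hr, rfl⟩ := List.mem_map.1 hw
  exact rotOK_spec hX hY hk (List.all_eq_true.1 h r hr)

/-- A word `r g r⁻¹` with `g` commuting with the involution by the known word `(src, g, word)`. -/
def subOK (r : List ℕ) (known : List (List ℕ)) (t : ℕ × ℕ × ℕ) : Bool :=
  match known[t.1]? with
  | some k => conjEq r (wordOf t.2.1) (wordOf t.2.2) &&
      wEq (norm3 (0 :: wordOf t.2.1 ++ 0 :: invW (wordOf t.2.1))) (norm3 k)
  | none => false

theorem subOK_spec (hX : X * X = 1) (hY : Y * Y * Y = 1) {known : List (List ℕ)}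
    (hk : ∀ w ∈ known, evalW X Y w = 1) {r c : List ℕ} (hc : conjEq r [0] c = true) {t : ℕ × ℕ × ℕ}
    (h : subOK r known t = true) : evalW X Y (wordOf t.2.2) ∈ Subgroup.centralizer {evalW X Y c} := by
  unfold subOK at h
  split at h
  · rename_i k hkk
    simp only [Bool.and_eq_true] at h
    rw [Subgroup.mem_centralizer_singleton_iff, conjEq_spec hX hY h.1, conjEq_spec hX hY hc]
    have h2 := congrArg (evalW X Y) (eq_of_wEq h.2)
    rw [evalW_norm3 hX hY, evalW_norm3 hX hY, hk k (List.mem_of_getElem? hkk), evalW_append, evalW_cons,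
      evalW_cons, evalW_invW hX] at h2
    generalize evalW X Y (wordOf t.2.1) = g at h2 ⊢
    generalize evalW X Y r = u
    have hx0 : letter X Y 0 = X := rfl
    rw [hx0] at h2
    have hg : g * X = X * g := by
      have h3 : X * g * X * g⁻¹ = 1 := by rw [← h2]; group
      calc g * X = X * X * (g * X) := by rw [hX, one_mul]
        _ = X * (X * g * X * g⁻¹) * g := by group
        _ = X * g := by rw [h3, mul_one]
    have hx1 : evalW X Y [0] = X := by simp [evalW, hx0]
    rw [hx1]
    calc u * g * u⁻¹ * (u * X * u⁻¹) = u * (g * X) * u⁻¹ := by group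
      _ = u * (X * g) * u⁻¹ := by rw [hg]
      _ = u * X * u⁻¹ * (u * g * u⁻¹) := by group
  · exact Bool.noConfusion h

/-- A derivation of one word. -/
structure Small where
  facts : Store
  count : ℕ
  rots : List Rot
  path : List ℕ
  query : List ℕ
  conj : List ℕ
  word : List ℕ

/-- The log of a derivation. -/
def Small.log (S : Small) : Log := ⟨S.facts, S.rots.map Rot.word, []⟩

/-- Check of a derivation. -/
def Small.check (known : List (List ℕ)) (S : Small) : Bool :=
  S.rots.all (rotOK known) && allRange (checkFact S.log) 1 S.count && conjEq S.conj S.query S.word &&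
    match chain S.log (S.count + 1) S.path 0 with
    | some (e, w) => Nat.beq e 0 && wEq (reduce w) (reduce S.query)
    | none => false

theorem Small.sound (hX : X * X = 1) (hY : Y * Y * Y = 1) {known : List (List ℕ)}
    (hk : ∀ w ∈ known, evalW X Y w = 1) {S : Small} (h : S.check known = true) :
    evalW X Y S.word = 1 := by
  simp only [Small.check, Bool.and_eq_true] at h
  obtain ⟨⟨⟨hr, hc⟩, hconj⟩, hp⟩ := h
  split at hp
  · rename_i e w hw
    simp only [Bool.and_eq_true] at hp
    obtain rfl := Nat.eq_of_beq_eq_true hp.1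
    have hold := holds_of_check (H := (⊥ : Subgroup G)) (L := S.log) hX (rots_spec hX hY hk hr)
      (fun w hw => by simp [Small.log] at hw) (m := S.count)
      (fun j h1 h2 => allRange_spec hc j h1 (by omega))
    have hq := Subgroup.mem_bot.1 (mem_of_path hX hold hw hp.2)
    rw [conjEq_spec hX hY hconj, hq]
    simp
  · exact Bool.noConfusion hp

/-- Derivations in sequence. -/
def checkSeq : List (List ℕ) → List Small → Bool
  | _, [] => true
  | known, S :: l => S.check known && checkSeq (known ++ [S.word]) l

theorem checkSeq_sound (hX : X * X = 1) (hY : Y * Y * Y = 1) : ∀ (l : List Small) (known : List (List ℕ)),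
    (∀ w ∈ known, evalW X Y w = 1) → checkSeq known l = true →
      ∀ w ∈ known ++ l.map Small.word, evalW X Y w = 1
  | [], known, hk, _ => by simpa using hk
  | S :: l, known, hk, h => by
    simp only [checkSeq, Bool.and_eq_true] at h
    have h1 : ∀ w ∈ known ++ [S.word], evalW X Y w = 1 := fun w hw => by
      rcases List.mem_append.1 hw with hw | hw
      · exact hk w hw
      · rw [List.mem_singleton.1 hw]; exact Small.sound hX hY hk h.1
    have h2 := checkSeq_sound hX hY l _ h1 h.2
    simpa [List.append_assoc] using h2

end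

end Cfsg.Agent.M24Pres
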